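import Mathlib.GroupTheory.GroupAction.Hom
import Cfsg.Prelude.Def_OddOrderLocal
import Cfsg.Prelude.Def_Transfer
import Cfsg.Agent.PGroup.ClassTwo
import Cfsg.Agent.PGroup.Extraspecial
import Cfsg.Agent.S0662

/-!
Groups of order `p ^ 3`, and the parity of a `3`-group of maximal class with a group of operators
without fixed points on the abelianisation that fixes the centre.
-/

set_option autoImplicit false
set_option linter.style.haveILetI false
set_option linter.unusedSectionVars false

open scoped commutatorElement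

namespace Cfsg.Agent.IsoRankTwo

variable {X : Type*} [Group X] [Finite X] {p : ℕ} [hp : Fact p.Prime]

/-- A nonabelian group of order `p ^ 3` and exponent `p` is extraspecial. -/
theorem isExtraspecial_cube (hX : IsPGroup p X) (h : Nat.card X = p ^ 3) (hna : ¬ IsMulCommutative X)
    (he : ∀ g : X, g ^ p = 1) : Cfsg.IsExtraspecial p X := by
  haveI : Nontrivial X := Finite.one_lt_card_iff_nontrivial.1 (by
    rw [h]; exact Nat.one_lt_pow three_ne_zero hp.out.one_lt)
  haveI : Nontrivial (Subgroup.center X) := hX.center_nontrivial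
  obtain ⟨k, hk⟩ := IsPGroup.iff_card.1 (hX.to_subgroup (Subgroup.center X))
  have hk1 : 1 ≤ k := by
    by_contra hh
    have := Finite.one_lt_card (α := Subgroup.center X)
    rw [hk, show k = 0 by omega, pow_zero] at this
    omega
  have hq : Nat.card (X ⧸ Subgroup.center X) * p ^ k = p ^ 3 := by
    rw [← h, ← hk, ← Subgroup.index_eq_card, mul_comm]
    exact (Subgroup.center X).card_mul_index
  have hk3 : k ≤ 3 := (Nat.pow_dvd_pow_iff_le_right hp.out.one_lt).1 (Dvd.intro_left _ hq)
  have hcy : ∀ j, k + j = 3 → Nat.card (X ⧸ Subgroup.center X) = p ^ j := fun j hj => by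
    rw [← hj, pow_add, mul_comm (p ^ k)] at hq
    exact Nat.eq_of_mul_eq_mul_right (pow_pos hp.out.pos k) hq
  have hk1' : k = 1 := by
    by_contra hne
    refine hna ?_
    have hcyc : IsCyclic (X ⧸ Subgroup.center X) := by
      rcases (show k = 2 ∨ k = 3 by omega) with rfl | rfl
      · exact isCyclic_of_prime_card (p := p) (by rw [hcy 1 rfl, pow_one])
      · haveI := (Nat.card_eq_one_iff_unique.1 (by rw [hcy 0 rfl, pow_zero] : Nat.card (X ⧸ Subgroup.center X) = 1)).1
        infer_instance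
    exact (MonoidHom.isMulCommutative_of_isCyclic_of_ker_le_center (QuotientGroup.mk' (Subgroup.center X))
      (by rw [QuotientGroup.ker_mk']))
  subst hk1'
  rw [pow_one] at hk
  refine PGroup.isExtraspecial_of_center hX hk hna ?_ fun g => by rw [he g]; exact one_mem _
  exact Subgroup.Normal.quotient_commutative_iff_commutator_le.1
    ⟨⟨IsPGroup.commutative_of_card_eq_prime_sq (hcy 2 rfl)⟩⟩

/-- A group of order `p ^ 3` not of exponent `p` is metacyclic. -/
theorem isMetacyclic_cube (hX : IsPGroup p X) (h : Nat.card X = p ^ 3)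
    (he : ¬ ∀ g : X, g ^ p = 1) : Cfsg.IsMetacyclic X := by
  obtain ⟨g, hg⟩ := not_forall.1 he
  obtain ⟨k, hk⟩ := IsPGroup.iff_orderOf.1 hX g
  have hk3 : k ≤ 3 := (Nat.pow_dvd_pow_iff_le_right hp.out.one_lt).1 (hk ▸ h ▸ orderOf_dvd_natCard g)
  have hk2 : 2 ≤ k := by
    by_contra hh
    refine hg (orderOf_dvd_iff_pow_eq_one.1 (hk ▸ ?_))
    exact (pow_dvd_pow p (show k ≤ 1 by omega)).trans (pow_one p).dvd
  set C := Subgroup.zpowers g
  have hidx : C.index = p ^ (3 - k) := by
    have h1 := C.card_mul_index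
    rw [Nat.card_zpowers, hk, h] at h1
    refine Nat.eq_of_mul_eq_mul_left (pow_pos hp.out.pos k) (h1.trans ?_)
    rw [← pow_add, Nat.add_sub_cancel' hk3]
  have hn : C.Normal := by
    rcases (show k = 2 ∨ k = 3 by omega) with rfl | rfl
    · refine Subgroup.normal_of_index_eq_minFac_card ?_
      rw [hidx, h, Nat.pow_minFac three_ne_zero, hp.out.minFac_eq, show 3 - 2 = 1 from rfl, pow_one]
    · rw [Nat.sub_self, pow_zero, Subgroup.index_eq_one] at hidx
      rw [hidx]; infer_instance
  refine ⟨C, hn, inferInstance, ?_⟩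
  haveI := hn
  rcases (show k = 2 ∨ k = 3 by omega) with rfl | rfl
  · exact isCyclic_of_prime_card (p := p) (by
      rw [← Subgroup.index_eq_card, hidx, show 3 - 2 = 1 from rfl, pow_one])
  · haveI := (Nat.card_eq_one_iff_unique.1
      (by rw [← Subgroup.index_eq_card, hidx, Nat.sub_self, pow_zero] : Nat.card (X ⧸ C) = 1)).1
    infer_instance

/-- The operators of order prime to `3` on a group of order `9`, without fixed points, invert it. -/
theorem exists_inversion {V : Type*} [Group V] [Finite V] (hV : Nat.card V = 9) (he : ∀ v : V, v ^ 3 = 1)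
    (J : Subgroup (MulAut V)) (hJ : ¬ 3 ∣ Nat.card J) (hfix : ∀ v : V, (∀ σ ∈ J, σ v = v) → v = 1) :
    ∃ σ ∈ J, ∀ v : V, σ v = v⁻¹ := by
  classical
  haveI : Fact (Nat.Prime 3) := ⟨by norm_num⟩
  haveI : Fact (Nat.Prime 2) := ⟨by norm_num⟩
  have hcomm : ∀ a b : V, Commute a b := fun a b =>
    IsPGroup.commutative_of_card_eq_prime_sq (p := 3) (by rw [hV]; norm_num) a b
  have hVp : IsPGroup 3 V := IsPGroup.of_card (n := 2) (by rw [hV]; norm_num)
  have hsubcard : ∀ F : Subgroup V, Nat.card F = 1 ∨ Nat.card F = 3 ∨ Nat.card F = 9 := by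
    intro F
    obtain ⟨i, hi⟩ := IsPGroup.iff_card.1 (hVp.to_subgroup F)
    have h1 : 3 ^ i ∣ 3 ^ 2 := by rw [← hi]; norm_num; rw [← hV]; exact F.card_subgroup_dvd_card
    have h2 : i ≤ 2 := (Nat.pow_dvd_pow_iff_le_right (by norm_num)).1 h1
    interval_cases i <;> simp [hi]
  -- `J` is a `2`-group
  have hJ2 : IsPGroup 2 J := by
    rw [IsPGroup.iff_card]
    refine ⟨_, Nat.eq_prime_pow_of_unique_prime_dvd Nat.card_pos.ne' fun {q} hq hqd => ?_⟩
    haveI := Fact.mk hq
    by_contra hq2
    obtain ⟨⟨σ, hσJ⟩, hσ⟩ := exists_prime_orderOf_dvd_card' (G := J) q hqd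
    rw [Subgroup.orderOf_mk] at hσ
    have hq3 : q ≠ 3 := fun h => hJ (h ▸ hqd)
    have hH : IsPGroup q (Subgroup.zpowers σ) := IsPGroup.of_card (n := 1) (by
      rw [Nat.card_zpowers, hσ, pow_one])
    let F : Subgroup V := (σ.toMonoidHom).eqLocus (MonoidHom.id V)
    have hmod := hH.card_modEq_card_fixedPoints V
    have hF : Nat.card (MulAction.fixedPoints (Subgroup.zpowers σ) V) = Nat.card F := by
      refine Nat.card_congr (Equiv.subtypeEquivRight fun v => ?_)
      constructor
      · intro hv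
        exact hv ⟨σ, Subgroup.mem_zpowers σ⟩
      · rintro hv ⟨τ, hτ⟩
        have hle : Subgroup.zpowers σ ≤ MulAction.stabilizer (MulAut V) v :=
          Subgroup.zpowers_le.2 hv
        exact hle hτ
    rw [hV, hF] at hmod
    rcases hsubcard F with h1 | h1 | h1 <;> rw [h1] at hmod
    · have hd : q ∣ 8 := (Nat.modEq_iff_dvd' (by norm_num)).1 hmod.symm
      exact hq2 ((Nat.prime_dvd_prime_iff_eq hq Nat.prime_two).1 (hq.dvd_of_dvd_pow (n := 3) hd))
    · have hd : q ∣ 2 * 3 := (Nat.modEq_iff_dvd' (by norm_num)).1 hmod.symm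
      rcases (Nat.Prime.dvd_mul hq).1 hd with h | h
      · exact hq2 ((Nat.prime_dvd_prime_iff_eq hq Nat.prime_two).1 h)
      · exact hq3 ((Nat.prime_dvd_prime_iff_eq hq (by norm_num)).1 h)
    · have htop : F = ⊤ := Subgroup.eq_top_of_card_eq _ (h1.trans hV.symm)
      have hσ1 : σ = 1 := MulEquiv.ext fun v => (htop.ge (Subgroup.mem_top v) : σ v = v)
      rw [hσ1, orderOf_one] at hσ
      exact hq.one_lt.ne hσ
  have hne : J ≠ ⊥ := by
    intro h
    haveI : Nontrivial V := Finite.one_lt_card_iff_nontrivial.1 (by rw [hV]; norm_num)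
    obtain ⟨v, hv⟩ := exists_ne (1 : V)
    exact hv (hfix v fun σ hσ => by rw [h, Subgroup.mem_bot] at hσ; rw [hσ]; rfl)
  haveI : Nontrivial J := (Subgroup.nontrivial_iff_ne_bot J).2 hne
  haveI : Nontrivial (Subgroup.center J) := hJ2.center_nontrivial
  obtain ⟨⟨⟨σ, hσJ⟩, hσc⟩, hσ⟩ := exists_prime_orderOf_dvd_card' (G := Subgroup.center J) 2 (by
    obtain ⟨i, hi⟩ := IsPGroup.iff_card.1 (hJ2.to_subgroup (Subgroup.center J))
    have := Finite.one_lt_card (α := Subgroup.center J)
    rw [hi] at this ⊢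
    exact dvd_pow_self 2 (by rintro rfl; simp at this))
  rw [Subgroup.orderOf_mk, Subgroup.orderOf_mk] at hσ
  have hσσ : ∀ v, σ (σ v) = v := fun v => by
    have h2 : σ ^ 2 = 1 := by rw [← hσ]; exact pow_orderOf_eq_one σ
    rw [pow_two] at h2
    exact DFunLike.congr_fun h2 v
  have hσcomm : ∀ τ ∈ J, ∀ v, τ (σ v) = σ (τ v) := fun τ hτ v =>
    DFunLike.congr_fun (congrArg Subtype.val (Subgroup.mem_center_iff.1 hσc ⟨τ, hτ⟩)) v
  have hhalf : ∀ v : V, v = (v * σ v) ^ 2 * (v * (σ v)⁻¹) ^ 2 := by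
    intro v
    rw [(hcomm v (σ v)).mul_pow, (hcomm v (σ v)⁻¹).mul_pow, mul_assoc, ← mul_assoc ((σ v) ^ 2),
      ((hcomm (σ v) v).pow_pow 2 2).eq, mul_assoc, inv_pow, mul_inv_cancel, mul_one, ← pow_add]
    rw [show 2 + 2 = 3 + 1 from rfl, pow_succ, he, one_mul]
  have hplus : ∀ v, σ (v * σ v) = v * σ v := fun v => by
    rw [map_mul, hσσ]; exact (hcomm _ _).eq
  have hminus : ∀ v, σ (v * (σ v)⁻¹) = (v * (σ v)⁻¹)⁻¹ := fun v => by
    rw [map_mul, map_inv, hσσ, mul_inv_rev, inv_inv]
  by_cases hF : ∀ f, σ f = f → f = 1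
  · refine ⟨σ, hσJ, fun v => ?_⟩
    have h := hF _ (hplus v)
    exact eq_inv_of_mul_eq_one_right h
  simp only [not_forall] at hF
  obtain ⟨f, hf, hf1⟩ := hF
  let F : Subgroup V := (σ.toMonoidHom).eqLocus (MonoidHom.id V)
  let W : Subgroup V :=
    { carrier := {v | σ v = v⁻¹}
      one_mem' := by simp
      mul_mem' := fun {a b} (ha : σ a = a⁻¹) (hb : σ b = b⁻¹) => by
        show σ (a * b) = (a * b)⁻¹
        rw [map_mul, ha, hb, mul_inv_rev]; exact (hcomm _ _).eq
      inv_mem' := fun {a} (ha : σ a = a⁻¹) => by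
        show σ a⁻¹ = a⁻¹⁻¹
        rw [map_inv, ha] }
  have hFW : ∀ v, v ∈ F → v ∈ W → v = 1 := by
    intro v (h1 : σ v = v) (h2 : σ v = v⁻¹)
    have h3 : v ^ 2 = 1 := by
      rw [pow_two]; nth_rewrite 2 [← h1]; rw [h2, mul_inv_cancel]
    calc v = v ^ 3 * (v ^ 2)⁻¹ := by group
      _ = 1 := by rw [he, h3, inv_one, mul_one]
  have hW : W ≠ ⊥ := by
    intro h
    have hσ1 : σ = 1 := MulEquiv.ext fun v => by
      have h1 : v * (σ v)⁻¹ ∈ W := hminus v
      rw [h, Subgroup.mem_bot, mul_inv_eq_one] at h1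
      exact h1.symm
    rw [hσ1, orderOf_one] at hσ
    norm_num at hσ
  have hWc : Nat.card W = 3 := by
    rcases hsubcard W with h | h | h
    · exact absurd (Subgroup.card_eq_one.1 h) hW
    · exact h
    · exact absurd (hFW f hf ((Subgroup.eq_top_of_card_eq _ (h.trans hV.symm)).ge (Subgroup.mem_top f))) hf1
  have hFc : Nat.card F = 3 := by
    rcases hsubcard F with h | h | h
    · exact absurd ((Subgroup.card_eq_one.1 h).le (show f ∈ F from hf)) hf1
    · exact h
    · obtain ⟨w, hw, hw1⟩ := (Subgroup.bot_or_exists_ne_one W).resolve_left hW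
      exact absurd (hFW w ((Subgroup.eq_top_of_card_eq _ (h.trans hV.symm)).ge (Subgroup.mem_top w)) hw) hw1
  have htwo : ∀ (L : Subgroup V), Nat.card L = 3 → ∀ l ∈ L, l ≠ 1 → ∀ m ∈ L, m = 1 ∨ m = l ∨ m = l⁻¹ := by
    intro L hL l hl hl1 m hm
    have hz : Subgroup.zpowers l = L := by
      refine Subgroup.eq_of_le_of_card_ge (Subgroup.zpowers_le.2 hl) ?_
      rw [hL, Nat.card_zpowers]
      rcases (Nat.dvd_prime (by norm_num : Nat.Prime 3)).1 (orderOf_dvd_of_pow_eq_one (he l)) with h | h
      · exact absurd (orderOf_eq_one_iff.1 h) hl1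
      · exact h.ge
    rw [← hz, ← mem_powers_iff_mem_zpowers] at hm
    obtain ⟨i, rfl⟩ := hm
    show l ^ i = 1 ∨ l ^ i = l ∨ l ^ i = l⁻¹
    rw [← Nat.div_add_mod i 3, pow_add, pow_mul, he, one_pow, one_mul]
    have h3 : i % 3 < 3 := Nat.mod_lt _ (by norm_num)
    interval_cases i % 3
    · exact Or.inl (pow_zero l)
    · exact Or.inr (Or.inl (pow_one l))
    · exact Or.inr (Or.inr (eq_inv_of_mul_eq_one_left (by rw [← pow_succ, he])))
  have hpres : ∀ τ ∈ J, (∀ v ∈ F, τ v ∈ F) ∧ ∀ v ∈ W, τ v ∈ W := fun τ hτ =>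
    ⟨fun v (hv : σ v = v) => by
      show σ (τ v) = τ v
      rw [← hσcomm τ hτ, hv],
    fun v (hv : σ v = v⁻¹) => by
      show σ (τ v) = (τ v)⁻¹
      rw [← hσcomm τ hτ, hv, map_inv]⟩
  obtain ⟨τ, hτ, hτf⟩ : ∃ τ ∈ J, τ f ≠ f := by
    by_contra h
    simp only [not_exists, not_and, ne_eq, not_not] at h
    exact hf1 (hfix f h)
  have hτf' : τ f = f⁻¹ := by
    rcases htwo F hFc f hf hf1 _ ((hpres τ hτ).1 f hf) with h | h | h
    · exact absurd (τ.injective (h.trans (map_one τ).symm)) hf1
    · exact absurd h hτf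
    · exact h
  obtain ⟨w, hw, hw1⟩ := (Subgroup.bot_or_exists_ne_one W).resolve_left hW
  -- one of `τ`, `τσ` inverts both lines
  obtain ⟨ρ, hρ, hρf, hρw⟩ : ∃ ρ ∈ J, ρ f = f⁻¹ ∧ ρ w = w⁻¹ := by
    rcases htwo W hWc w hw hw1 _ ((hpres τ hτ).2 w hw) with h | h | h
    · exact absurd (τ.injective (h.trans (map_one τ).symm)) hw1
    · exact ⟨τ * σ, mul_mem hτ hσJ, by show τ (σ f) = _; rw [hf, hτf'],
        by show τ (σ w) = _; rw [show σ w = w⁻¹ from hw, map_inv, h]⟩
    · exact ⟨τ, hτ, hτf', h⟩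
  refine ⟨ρ, hρ, fun v => ?_⟩
  let S : Subgroup V :=
    { carrier := {v | ρ v = v⁻¹}
      one_mem' := by simp
      mul_mem' := fun {a b} (ha : ρ a = a⁻¹) (hb : ρ b = b⁻¹) => by
        show ρ (a * b) = (a * b)⁻¹
        rw [map_mul, ha, hb, mul_inv_rev]; exact (hcomm _ _).eq
      inv_mem' := fun {a} (ha : ρ a = a⁻¹) => by
        show ρ a⁻¹ = a⁻¹⁻¹
        rw [map_inv, ha] }
  have hgen : ∀ (L : Subgroup V), Nat.card L = 3 → ∀ l ∈ L, l ≠ 1 → l ∈ S → L ≤ S := by
    intro L hL l hl hl1 hlS m hm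
    rcases htwo L hL l hl hl1 m hm with rfl | rfl | rfl
    · exact one_mem _
    · exact hlS
    · exact inv_mem hlS
  have hv : v ∈ S := by
    rw [hhalf v]
    exact mul_mem (hgen F hFc f hf hf1 hρf (pow_mem (show v * σ v ∈ F from hplus v) 2))
      (hgen W hWc w hw hw1 hρw (pow_mem (show v * (σ v)⁻¹ ∈ W from hminus v) 2))
  exact hv

/-- An automorphism inverting the abelianisation acts by `(-1) ^ (k + 1)` on the `k`-th lower central
factor. -/
theorem lowerCentral_sign (φ : MulAut X) (hinv : ∀ u : X, φ u * u ∈ commutator X) :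
    ∀ k : ℕ, ∀ c ∈ (⊤ : Subgroup X).lowerCentralSeries k,
      (Even k → φ c * c ∈ (⊤ : Subgroup X).lowerCentralSeries (k + 1)) ∧
      (¬ Even k → φ c * c⁻¹ ∈ (⊤ : Subgroup X).lowerCentralSeries (k + 1)) := by
  intro k
  induction k with
  | zero =>
    intro c _
    refine ⟨fun _ => ?_, fun h => absurd Even.zero h⟩
    rw [zero_add, Subgroup.top_lowerCentralSeries_one]
    exact hinv c
  | succ k ih =>
    set L := fun i => (⊤ : Subgroup X).lowerCentralSeries i with hL
    set π := QuotientGroup.mk' (L (k + 1 + 1)) with hπ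
    have hcen : ∀ a ∈ L (k + 1), π a ∈ Subgroup.center _ := by
      intro a ha
      refine Subgroup.mem_center_iff.2 fun w => ?_
      obtain ⟨w, rfl⟩ := QuotientGroup.mk'_surjective _ w
      have h1 : π ⁅a, w⁆ = 1 := (QuotientGroup.eq_one_iff _).2 (by
        show ⁅a, w⁆ ∈ L (k + 1 + 1)
        simp only [hL]
        rw [Subgroup.lowerCentralSeries_succ]
        exact Subgroup.commutator_mem_commutator ha (Subgroup.mem_top w))
      rw [map_commutatorElement] at h1
      exact (commutatorElement_eq_one_iff_mul_comm.1 h1).symm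
    have hmemc : ∀ a ∈ L k, ∀ v : X, ⁅π a, π v⁆ ∈ Subgroup.center _ := fun a ha v => by
      rw [← map_commutatorElement]
      refine hcen _ ?_
      simp only [hL]
      rw [Subgroup.lowerCentralSeries_succ]
      exact Subgroup.commutator_mem_commutator ha (Subgroup.mem_top v)
    have hkill : ∀ a ∈ L k, ∀ w ∈ commutator X, ⁅π a, π w⁆ = 1 := by
      intro a ha w hw
      let h : X →* Subgroup.center (X ⧸ L (k + 1 + 1)) :=
        { toFun := fun v => ⟨⁅π a, π v⁆, hmemc a ha v⟩
          map_one' := Subtype.ext (by simp)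
          map_mul' := fun u v => Subtype.ext (by
            show ⁅π a, π (u * v)⁆ = ⁅π a, π u⁆ * ⁅π a, π v⁆
            rw [map_mul, PGroup.commutatorElement_mul_right (hmemc a ha v)]) }
      have hle : commutator X ≤ h.ker := by
        rw [commutator_eq_closure, Subgroup.closure_le]
        rintro _ ⟨b, d, rfl⟩
        refine MonoidHom.mem_ker.2 ?_
        rw [map_commutatorElement, commutatorElement_eq_one_iff_mul_comm]
        exact Subtype.ext (Subgroup.mem_center_iff.1 (h d).2 (h b : X ⧸ L (k + 1 + 1)))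
      have hh : w ∈ h.ker := hle hw
      exact congrArg Subtype.val (MonoidHom.mem_ker.1 hh)
    have hgen : ∀ a ∈ L k, ∀ v : X,
        (Even k → π (φ ⁅a, v⁆) = π ⁅a, v⁆) ∧ (¬ Even k → π (φ ⁅a, v⁆) = (π ⁅a, v⁆)⁻¹) := by
      intro a ha v
      have hφv : π (φ v) = π (φ v * v) * (π v)⁻¹ := by rw [map_mul, mul_inv_cancel_right]
      have hφa : φ a ∈ L k := Subgroup.characteristic_iff_map_le.1
        inferInstance φ (Subgroup.mem_map_of_mem _ ha)
      have h1 : ⁅π (φ a), π (φ v)⁆ = ⁅π (φ a), π v⁆⁻¹ := by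
        rw [hφv, ← map_inv π v, PGroup.commutatorElement_mul_right (hmemc _ hφa v⁻¹),
          hkill _ hφa _ (hinv v), one_mul, map_inv, PGroup.commutatorElement_inv_right (hmemc _ hφa v)]
      constructor
      · intro he
        have h2 : π (φ a) = π (φ a * a) * (π a)⁻¹ := by rw [map_mul, mul_inv_cancel_right]
        have hz := hcen _ ((ih a ha).1 he)
        have h3 : ⁅π (φ a * a), π v⁆ = 1 := commutatorElement_eq_one_iff_mul_comm.2
          (Subgroup.mem_center_iff.1 hz _).symm
        have h4 : ⁅(π a)⁻¹, π v⁆ = ⁅π a, π v⁆⁻¹ := PGroup.commutatorElement_inv_left (hmemc a ha v)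
        rw [map_commutatorElement, map_commutatorElement, h1, h2,
          PGroup.commutatorElement_mul_left (by rw [h4]; exact inv_mem (hmemc a ha v)), h3, one_mul, h4,
          inv_inv, ← map_commutatorElement]
      · intro he
        have h2 : π (φ a) = π (φ a * a⁻¹) * π a := by rw [← map_mul, inv_mul_cancel_right]
        have hz := hcen _ ((ih a ha).2 he)
        have h3 : ⁅π (φ a * a⁻¹), π v⁆ = 1 := commutatorElement_eq_one_iff_mul_comm.2
          (Subgroup.mem_center_iff.1 hz _).symm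
        rw [map_commutatorElement, map_commutatorElement, h1, h2,
          PGroup.commutatorElement_mul_left (hmemc a ha v), h3, one_mul, ← map_commutatorElement]
    intro c hc
    have hφL : ∀ a ∈ L (k + 1), φ a ∈ L (k + 1) := fun a ha =>
      Subgroup.characteristic_iff_map_le.1 inferInstance φ (Subgroup.mem_map_of_mem _ ha)
    constructor
    · intro he
      have hk : ¬ Even k := Nat.even_add_one.1 he
      let S : Subgroup X :=
        { carrier := {a | a ∈ L (k + 1) ∧ π (φ a) = (π a)⁻¹}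
          one_mem' := ⟨one_mem _, by simp⟩
          mul_mem' := fun {a b} ha hb => ⟨mul_mem ha.1 hb.1, by
            rw [map_mul, map_mul, map_mul, ha.2, hb.2, mul_inv_rev]
            exact Subgroup.mem_center_iff.1 (inv_mem (hcen b hb.1)) _⟩
          inv_mem' := fun {a} ha => ⟨inv_mem ha.1, by rw [map_inv, map_inv, map_inv, ha.2]⟩ }
      have hS : (⊤ : Subgroup X).lowerCentralSeries (k + 1) ≤ S := by
        rw [Subgroup.lowerCentralSeries_succ, Subgroup.commutator_le]
        intro a ha v _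
        refine ⟨?_, (hgen a ha v).2 hk⟩
        simp only [hL]
        rw [Subgroup.lowerCentralSeries_succ]
        exact Subgroup.commutator_mem_commutator ha (Subgroup.mem_top v)
      have h := (hS hc).2
      refine (QuotientGroup.eq_one_iff _).1 ?_
      show π (φ c * c) = 1
      rw [map_mul, h, inv_mul_cancel]
    · intro he
      have hk : Even k := by
        by_contra hne
        exact he (Nat.even_add_one.2 hne)
      let S : Subgroup X :=
        { carrier := {a | a ∈ L (k + 1) ∧ π (φ a) = π a}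
          one_mem' := ⟨one_mem _, by simp⟩
          mul_mem' := fun {a b} ha hb => ⟨mul_mem ha.1 hb.1, by
            rw [map_mul, map_mul, map_mul, ha.2, hb.2]⟩
          inv_mem' := fun {a} ha => ⟨inv_mem ha.1, by rw [map_inv, map_inv, map_inv, ha.2]⟩ }
      have hS : (⊤ : Subgroup X).lowerCentralSeries (k + 1) ≤ S := by
        rw [Subgroup.lowerCentralSeries_succ, Subgroup.commutator_le]
        intro a ha v _
        refine ⟨?_, (hgen a ha v).1 hk⟩
        simp only [hL]
        rw [Subgroup.lowerCentralSeries_succ]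
        exact Subgroup.commutator_mem_commutator ha (Subgroup.mem_top v)
      have h := (hS hc).2
      refine (QuotientGroup.eq_one_iff _).1 ?_
      show π (φ c * c⁻¹) = 1
      rw [map_mul, map_inv, h, mul_inv_cancel]

/-- The parity of a `3`-group of maximal class. -/
theorem maxClass_parity {n : ℕ} (hcard : Nat.card X = 3 ^ n) (hn : 4 ≤ n)
    (hlcs : (⊤ : Subgroup X).lowerCentralSeries (n - 2) ≠ ⊥)
    {Γ : Type*} [Group Γ] (θ : Γ →* MulAut X) (m : ℕ) (hm : ¬ 3 ∣ m)
    (hinner : ∀ (g : Γ) (u : X), θ (g ^ m) u * u⁻¹ ∈ commutator X)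
    (hnofix : ∀ u : X, (∀ g : Γ, θ g u * u⁻¹ ∈ commutator X) → u ∈ commutator X)
    (x : X) (hx : orderOf x = 3) (hxc : x ∈ Subgroup.center X) (hxfix : ∀ g : Γ, θ g x = x) :
    Odd n ∧ ∃ _ : Group.IsNilpotent X, Group.nilpotencyClass X = n - 1 := by
  haveI : Fact (Nat.Prime 3) := ⟨by norm_num⟩
  have hXp : IsPGroup 3 X := IsPGroup.of_card hcard
  haveI hnil := hXp.isNilpotent
  have hidx2 : 2 ≤ Nat.log 3 (commutator X).index := by
    obtain ⟨j, hj⟩ := hXp.index (commutator X)
    rw [hj, Nat.log_pow (by norm_num)]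
    by_contra hlt
    have hcy : IsCyclic X := by
      refine PGroup.isCyclic_of_index_frattini_le (p := 3) hXp ?_
      refine (Nat.le_of_dvd (Nat.pos_of_ne_zero Subgroup.index_ne_zero_of_finite)
        (Subgroup.index_dvd_of_le (PGroup.commutator_le_frattini hXp))).trans ?_
      rw [hj]
      exact (Nat.pow_le_pow_right (by norm_num) (show j ≤ 1 by omega)).trans (pow_one 3).le
    refine hlcs (eq_bot_iff.2 ((Subgroup.lowerCentralSeries_antitone _ (show 1 ≤ n - 2 by omega)).trans ?_))
    rw [Subgroup.top_lowerCentralSeries_one]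
    exact ((commutator_eq_bot_iff_center_eq_top X).2 (eq_top_iff.2 fun a _ =>
      Subgroup.mem_center_iff.2 fun b => hcy.isMulCommutative.is_comm.comm b a)).le
  have hcl : Group.nilpotencyClass X = n - 1 := by
    have h1 : ¬ Group.nilpotencyClass X ≤ n - 2 := fun h =>
      hlcs (Subgroup.lowerCentralSeries_eq_bot_iff_nilpotencyClass_le.2 h)
    obtain ⟨j, hj⟩ := hXp.index (commutator X)
    rw [hj, Nat.log_pow (by norm_num)] at hidx2
    obtain ⟨k, hk⟩ := (hXp.to_subgroup (commutator X)).exists_card_eq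
    have hjk : k + j = n := by
      have h := Subgroup.card_mul_index (commutator X)
      rw [hj, hk, hcard, ← pow_add] at h
      exact Nat.pow_right_injective (by norm_num) h
    have h2 := Cfsg.Agent.H4.nilpotencyClass_le_of_card_commutator hXp hk.le
    omega
  refine ⟨?_, hnil, hcl⟩
  have hidx : (commutator X).index = 9 := by
    rw [Cfsg.Agent.H4.index_commutator_eq_sq (p := 3) (by omega) hcard hcl]; norm_num
  have hV : Nat.card (X ⧸ commutator X) = 9 := by rw [← Subgroup.index_eq_card]; exact hidx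
  have heV : ∀ v : X ⧸ commutator X, v ^ 3 = 1 := by
    intro v
    have hd : orderOf v ∣ 3 ^ 2 := by
      have := orderOf_dvd_natCard v
      rwa [hV] at this
    obtain ⟨i, hi, hord⟩ := (Nat.dvd_prime_pow (by norm_num : Nat.Prime 3)).1 hd
    rcases (show i ≤ 1 ∨ i = 2 by omega) with h | rfl
    · exact orderOf_dvd_iff_pow_eq_one.1 (by rw [hord]; exact (pow_dvd_pow 3 h).trans (pow_one 3).dvd)
    · exfalso
      haveI : IsCyclic (X ⧸ commutator X) :=
        isCyclic_of_orderOf_eq_card v (by rw [hord, hV]; norm_num)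
      have hcy : IsCyclic X := by
        refine PGroup.isCyclic_of_index_frattini_le (p := 3) hXp ?_
        -- the Frattini quotient is cyclic of exponent `3`
        haveI : IsCyclic (X ⧸ frattini X) := isCyclic_of_surjective
          (QuotientGroup.map (commutator X) (frattini X) (MonoidHom.id X)
            (PGroup.commutator_le_frattini hXp))
          (fun w => by
            obtain ⟨w, rfl⟩ := QuotientGroup.mk'_surjective _ w
            exact ⟨(w : X ⧸ commutator X), rfl⟩)
        obtain ⟨w, hw⟩ := IsCyclic.exists_generator (α := X ⧸ frattini X)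
        rw [Subgroup.index_eq_card, ← orderOf_eq_card_of_forall_mem_zpowers hw]
        refine Nat.le_of_dvd (by norm_num) (orderOf_dvd_of_pow_eq_one ?_)
        obtain ⟨w, rfl⟩ := QuotientGroup.mk'_surjective _ w
        rw [← map_pow]
        exact (QuotientGroup.eq_one_iff _).2 (PGroup.pow_mem_frattini hXp w)
      refine hlcs (eq_bot_iff.2 ((Subgroup.lowerCentralSeries_antitone _ (show 1 ≤ n - 2 by omega)).trans ?_))
      rw [Subgroup.top_lowerCentralSeries_one]
      exact ((commutator_eq_bot_iff_center_eq_top X).2 (eq_top_iff.2 fun a _ =>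
        Subgroup.mem_center_iff.2 fun b => hcy.isMulCommutative.is_comm.comm b a)).le
  let ψ : Γ →* MulAut (X ⧸ commutator X) :=
    { toFun := fun g => QuotientGroup.congr (commutator X) (commutator X) (θ g)
        (Subgroup.characteristic_iff_map_eq.1 inferInstance (θ g))
      map_one' := by
        ext v
        obtain ⟨v, rfl⟩ := QuotientGroup.mk'_surjective _ v
        simp
      map_mul' := fun g h => by
        ext v
        obtain ⟨v, rfl⟩ := QuotientGroup.mk'_surjective _ v
        rw [map_mul]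
        rfl }
  have hψ : ∀ g u, ψ g (QuotientGroup.mk' (commutator X) u) = QuotientGroup.mk' (commutator X) (θ g u) :=
    fun g u => rfl
  have hψm : ∀ g, ψ g ^ m = 1 := by
    intro g
    rw [← map_pow]
    ext v
    obtain ⟨v, rfl⟩ := QuotientGroup.mk'_surjective _ v
    rw [hψ]
    show _ = QuotientGroup.mk' (commutator X) v
    have h1 : QuotientGroup.mk' (commutator X) (θ (g ^ m) v * v⁻¹) = 1 :=
      (QuotientGroup.eq_one_iff _).2 (hinner g v)
    rw [map_mul, map_inv, mul_inv_eq_one] at h1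
    exact h1
  have hJ : ¬ 3 ∣ Nat.card ψ.range := by
    intro h
    obtain ⟨⟨_, g, rfl⟩, hσ⟩ := exists_prime_orderOf_dvd_card' (G := ψ.range) 3 h
    rw [← Subgroup.orderOf_coe] at hσ
    replace hσ : orderOf (ψ g) = 3 := hσ
    exact hm (hσ ▸ orderOf_dvd_of_pow_eq_one (hψm g))
  obtain ⟨_, ⟨g0, rfl⟩, hg0⟩ := exists_inversion hV heV ψ.range hJ (by
    intro v hv
    obtain ⟨u, rfl⟩ := QuotientGroup.mk'_surjective _ v
    refine (QuotientGroup.eq_one_iff _).2 (hnofix u fun g => ?_)
    have h1 := hv (ψ g) ⟨g, rfl⟩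
    rw [hψ] at h1
    refine (QuotientGroup.eq_one_iff _).1 (?_ : QuotientGroup.mk' (commutator X) (θ g u * u⁻¹) = 1)
    rw [map_mul, map_inv, h1, mul_inv_cancel])
  have hinv : ∀ u : X, θ g0 u * u ∈ commutator X := by
    intro u
    refine (QuotientGroup.eq_one_iff _).1 (?_ : QuotientGroup.mk' (commutator X) (θ g0 u * u) = 1)
    rw [map_mul, ← hψ, hg0, inv_mul_cancel]
  -- `x` lies in the last term
  haveI : (Subgroup.zpowers x).Normal := ⟨fun a ha g => by
    rw [Subgroup.mem_center_iff.1 ((Subgroup.zpowers_le.2 hxc) ha) g, mul_inv_cancel_right]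
    exact ha⟩
  have hxmem : x ∈ (⊤ : Subgroup X).lowerCentralSeries (n - 2) := by
    have h1 := (S0662.result n hcard hcl (by omega)).1 (Subgroup.zpowers x) (n - 1) (by omega) (by
      have h := (Subgroup.zpowers x).card_mul_index
      rw [Nat.card_zpowers, hx, hcard, show n = n - 1 + 1 by omega, pow_succ'] at h
      exact Nat.eq_of_mul_eq_mul_left (by norm_num) h)
    rw [show n - 1 - 1 = n - 2 by omega] at h1
    rw [← h1]
    exact Subgroup.mem_zpowers x
  have hlast : (⊤ : Subgroup X).lowerCentralSeries (n - 2 + 1) = ⊥ :=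
    Subgroup.lowerCentralSeries_eq_bot_iff_nilpotencyClass_le.2 (by omega)
  by_contra hodd
  rw [Nat.not_odd_iff_even] at hodd
  have hk : Even (n - 2) := by
    obtain ⟨r, hr⟩ := hodd
    exact ⟨r - 1, by omega⟩
  have h := (lowerCentral_sign (θ g0) hinv (n - 2) x hxmem).1 hk
  rw [hlast, Subgroup.mem_bot, hxfix] at h
  have h2 : orderOf x ∣ 2 := orderOf_dvd_of_pow_eq_one (by rw [pow_two]; exact h)
  rw [hx] at h2
  norm_num at h2

end Cfsg.Agent.IsoRankTwo
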