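import Cfsg.Prelude.Def_OddOrderLocal
import Cfsg.Agent.IsoRankTwo.Transfer
import Cfsg.Agent.IsoRankTwo.MaxClass
import Cfsg.Agent.S3888
import Cfsg.Agent.H73.Resistant.TypeOne
import Cfsg.Agent.H73.Resistant.TypeTwoBasic
import Cfsg.Agent.H73.HallPetrescu
import Cfsg.Agent.PGroup.Extraspecial

/-!
The Sylow subgroup containing an isolated element of order `p`, in rank at most two.
-/

set_option autoImplicit false
set_option linter.style.haveILetI false
set_option linter.unusedSectionVars false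
set_option maxHeartbeats 800000

open scoped commutatorElement

namespace Cfsg.Agent.IsoRankTwo

/-- Elements commuting modulo `K` generate a group whose derived group lies in `K`. -/
theorem commutator_le_of_gens {X : Type*} [Group X] (K : Subgroup X) [K.Normal] {s : Set X}
    (hs : Subgroup.closure s = ⊤) (h : ∀ a ∈ s, ∀ b ∈ s, a * b * a⁻¹ * b⁻¹ ∈ K) :
    commutator X ≤ K := by
  have hcomm : ∀ a b : X ⧸ K, a * b = b * a := by
    have hc : IsMulCommutative ↥(Subgroup.closure (QuotientGroup.mk' K '' s)) :=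
      Subgroup.isMulCommutative_closure (by
        rintro _ ⟨a, ha, rfl⟩ _ ⟨b, hb, rfl⟩
        have h1 : QuotientGroup.mk' K (a * b * a⁻¹ * b⁻¹) = 1 := (QuotientGroup.eq_one_iff _).2 (h a ha b hb)
        rw [map_mul, map_mul, map_mul, map_inv, map_inv] at h1
        exact mul_inv_eq_iff_eq_mul.1 (mul_inv_eq_one.1 h1))
    have htop : Subgroup.closure (QuotientGroup.mk' K '' s) = ⊤ := by
      rw [← MonoidHom.map_closure, hs, Subgroup.map_top_of_surjective _ (QuotientGroup.mk'_surjective K)]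
    intro a b
    exact congrArg Subtype.val (hc.is_comm.comm ⟨a, htop ▸ Subgroup.mem_top a⟩ ⟨b, htop ▸ Subgroup.mem_top b⟩)
  exact Subgroup.Normal.quotient_commutative_iff_commutator_le.1 ⟨⟨hcomm⟩⟩

/-- The `q`-th power map modulo `K` when commutators are central of exponent `p ∣ q` modulo `K`. -/
theorem mul_pow_mod {X : Type*} [Group X] {p q : ℕ} (hp : p.Prime) (hp2 : p ≠ 2) (hq : p ∣ q)
    (K : Subgroup X) [K.Normal] (hc : ∀ a b w : X, ⁅⁅a, b⁆, w⁆ ∈ K) (he : ∀ a b : X, ⁅a, b⁆ ^ p ∈ K)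
    (u v : X) : QuotientGroup.mk' K ((u * v) ^ q) = QuotientGroup.mk' K (u ^ q * v ^ q) := by
  set π := QuotientGroup.mk' K
  have hcen : ⁅π v, π u⁆ ∈ Subgroup.center (X ⧸ K) := Subgroup.mem_center_iff.2 fun w => by
    obtain ⟨w, rfl⟩ := QuotientGroup.mk'_surjective K w
    have h1 : π ⁅⁅v, u⁆, w⁆ = 1 := (QuotientGroup.eq_one_iff _).2 (hc v u w)
    rw [map_commutatorElement, map_commutatorElement] at h1
    exact (commutatorElement_eq_one_iff_mul_comm.1 h1).symm
  rw [map_pow, map_mul, map_mul, map_pow, map_pow, PGroup.mul_pow_of_commutatorElement hcen]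
  obtain ⟨c, hcq⟩ : p ∣ q.choose 2 := by
    rw [Nat.choose_two_right]
    have hodd := hp.odd_of_ne_two hp2
    have h2 : p ∣ q * (q - 1) := hq.mul_right _
    have hco : Nat.Coprime p 2 := (Nat.coprime_primes hp Nat.prime_two).2 hp2
    have he2 : 2 ∣ q * (q - 1) := (Nat.even_mul_pred_self q).two_dvd
    exact hco.dvd_of_dvd_mul_right (by rw [Nat.div_mul_cancel he2]; exact h2)
  have h1 : ⁅π v, π u⁆ ^ p = 1 := by
    rw [← map_commutatorElement, ← map_pow]
    exact (QuotientGroup.eq_one_iff _).2 (he v u)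
  rw [hcq, pow_mul, h1, one_pow, mul_one]

variable {G : Type*} [Group G] [Finite G] {p : ℕ} [hp : Fact p.Prime]
variable (hp2 : p ≠ 2) (P : Sylow p G) {x : G} (hxP : x ∈ (P : Subgroup G)) (hxo : orderOf x = p)
  (hiso : Cfsg.IsIsolated x) (hrank : Cfsg.PRankLE p 2 G) (hfull : (P : Subgroup G) ≤ commutator G)

include hp2 hxP hxo hiso hrank hfull

/-- `N(P)` has no fixed points on `P / K`, inside the type `P`. -/
theorem mem_of_fixed' {K : Subgroup (P : Subgroup G)} (hPK : commutator (P : Subgroup G) ≤ K)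
    (hKN : ∀ n : Subgroup.normalizer ((P : Subgroup G) : Set G), ∀ k ∈ K,
      (P : Subgroup G).normalizerMonoidHom n k ∈ K)
    {u : (P : Subgroup G)} (hfix : ∀ n : Subgroup.normalizer ((P : Subgroup G) : Set G),
      (P : Subgroup G).normalizerMonoidHom n u * u⁻¹ ∈ K) : u ∈ K := by
  have h := mem_of_fixed hp2 P hxP hxo hiso hrank hfull
    (K := K.map (P : Subgroup G).subtype) (Subgroup.map_subtype_le K)
    (by rw [← Subgroup.map_subtype_commutator]; exact Subgroup.map_mono hPK)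
    (fun n hn k hk => by
      obtain ⟨k', hk', rfl⟩ := hk
      exact ⟨_, hKN ⟨n, hn⟩ k' hk', rfl⟩)
    u.2 (fun n hn => ⟨_, hfix ⟨n, hn⟩, rfl⟩)
  obtain ⟨u', hu', hu''⟩ := h
  exact Subtype.ext hu'' ▸ hu'

theorem x_mem_commutator : (⟨x, hxP⟩ : (P : Subgroup G)) ∈ commutator (P : Subgroup G) := by
  refine mem_of_fixed' hp2 P hxP hxo hiso hrank hfull le_rfl (fun n k hk => ?_) (fun n => ?_)
  · exact Subgroup.characteristic_iff_map_le.1 inferInstance _ (Subgroup.mem_map_of_mem _ hk)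
  · have h1 : (P : Subgroup G).normalizerMonoidHom n ⟨x, hxP⟩ = ⟨x, hxP⟩ := Subtype.ext
      (LAE62.conj_eq_self_iff.2 (LAE62.isolated_normalizer_le_centralizer hiso P.2 hxP n.2))
    rw [h1, mul_inv_cancel]
    exact one_mem _

theorem not_comm : ¬ IsMulCommutative (P : Subgroup G) := by
  intro h
  have hbot : commutator (P : Subgroup G) = ⊥ := by
    rw [commutator_eq_bot_iff_center_eq_top, eq_top_iff]
    exact fun a _ => Subgroup.mem_center_iff.2 fun b => h.is_comm.comm b a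
  have hx := x_mem_commutator hp2 P hxP hxo hiso hrank hfull
  rw [hbot, Subgroup.mem_bot] at hx
  have : x = 1 := congrArg Subtype.val hx
  rw [this, orderOf_one] at hxo
  exact hp.out.one_lt.ne hxo

/-- No power map of `P` is a nontrivial homomorphism into `⟨x⟩`. -/
theorem pow_eq_one_of_hom (q : ℕ) (hhom : ∀ u v : (P : Subgroup G), (u * v) ^ q = u ^ q * v ^ q)
    (hval : ∀ u : (P : Subgroup G), (u : G) ^ q ∈ Subgroup.zpowers x) (u : (P : Subgroup G)) :
    u ^ q = 1 := by
  let f : (P : Subgroup G) →* (P : Subgroup G) :=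
    { toFun := fun w => w ^ q, map_one' := one_pow q, map_mul' := hhom }
  have hxc : ∀ w : (P : Subgroup G), Commute x (w : G) := fun w =>
    LAE62.isolated_commute_of_mem_pGroup hiso P.2 hxP w.2
  have hPK : commutator (P : Subgroup G) ≤ f.ker := by
    rw [commutator_eq_closure, Subgroup.closure_le]
    rintro _ ⟨a, b, rfl⟩
    show f ⁅a, b⁆ = 1
    rw [map_commutatorElement, commutatorElement_eq_one_iff_mul_comm]
    apply Subtype.ext
    obtain ⟨i, hi⟩ := Subgroup.mem_zpowers_iff.1 (hval a)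
    obtain ⟨j, hj⟩ := Subgroup.mem_zpowers_iff.1 (hval b)
    show (a : G) ^ q * (b : G) ^ q = (b : G) ^ q * (a : G) ^ q
    rw [← hi, ← hj, ← zpow_add, ← zpow_add, add_comm]
  refine mem_of_fixed' hp2 P hxP hxo hiso hrank hfull hPK (fun n k hk => ?_) (fun n => ?_) (u := u)
  · show f _ = 1
    show ((P : Subgroup G).normalizerMonoidHom n k) ^ q = 1
    rw [← map_pow, show k ^ q = 1 from hk, map_one]
  · show ((P : Subgroup G).normalizerMonoidHom n u * u⁻¹) ^ q = 1
    rw [hhom, ← map_pow, inv_pow, mul_inv_eq_one]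
    apply Subtype.ext
    obtain ⟨i, hi⟩ := Subgroup.mem_zpowers_iff.1 (hval u)
    show (n : G) * ((u : G) ^ q) * (n : G)⁻¹ = (u : G) ^ q
    rw [← hi, ← conj_zpow,
      LAE62.conj_eq_self_iff.2 (LAE62.isolated_normalizer_le_centralizer hiso P.2 hxP n.2)]

theorem not_metacyclic (hm : Cfsg.IsMetacyclic (P : Subgroup G)) : False := by
  set X := (P : Subgroup G)
  obtain ⟨C, hCn, hC, hQ⟩ := hm
  haveI := hC
  obtain ⟨⟨a, haC⟩, ha⟩ := IsCyclic.exists_generator (α := C)
  have hCa : C = Subgroup.zpowers a := by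
    refine le_antisymm (fun w hw => ?_) (Subgroup.zpowers_le.2 haC)
    obtain ⟨i, hi⟩ := Subgroup.mem_zpowers_iff.1 (ha ⟨w, hw⟩)
    exact Subgroup.mem_zpowers_iff.2 ⟨i, by simpa using congrArg Subtype.val hi⟩
  obtain ⟨b, hb⟩ := IsCyclic.exists_generator (α := X ⧸ C)
  obtain ⟨b, rfl⟩ := QuotientGroup.mk'_surjective C b
  have hgen : Subgroup.closure ({a, b} : Set X) = ⊤ := by
    rw [eq_top_iff]
    intro w _
    obtain ⟨i, hi⟩ := Subgroup.mem_zpowers_iff.1 (hb (QuotientGroup.mk' C w))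
    rw [← map_zpow] at hi
    have h1 : (b ^ i)⁻¹ * w ∈ C := QuotientGroup.eq.1 hi
    have h2 : Subgroup.zpowers a ≤ Subgroup.closure ({a, b} : Set X) :=
      Subgroup.zpowers_le.2 (Subgroup.subset_closure (by simp))
    have := mul_mem (Subgroup.zpow_mem _ (Subgroup.subset_closure (by simp : b ∈ ({a, b} : Set X))) i)
      (h2 (hCa ▸ h1))
    rwa [mul_inv_cancel_left] at this
  -- the derived group consists of `p`-th powers of `a`
  have hCp : ∀ w : X, ∀ k ∈ Subgroup.zpowers (a ^ p), w * k * w⁻¹ ∈ Subgroup.zpowers (a ^ p) := by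
    rintro w _ ⟨i, rfl⟩
    obtain ⟨j, hj⟩ := Subgroup.mem_zpowers_iff.1 (hCa ▸ hCn.conj_mem a haC w)
    refine Subgroup.mem_zpowers_iff.2 ⟨j * i, ?_⟩
    show _ = w * (a ^ p) ^ i * w⁻¹
    rw [← zpow_natCast, ← zpow_mul, ← zpow_mul, ← conj_zpow, ← hj, ← zpow_mul]
    ring_nf
  haveI : (Subgroup.zpowers (a ^ p)).Normal := ⟨fun k hk w => hCp w k hk⟩
  have hXp : IsPGroup p X := P.2
  have hcard : Nat.card (Subgroup.zpowers a) ≤ p * Nat.card (Subgroup.zpowers (a ^ p)) := by
    rw [Nat.card_zpowers, Nat.card_zpowers, orderOf_pow' a hp.out.ne_zero]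
    have hg : (orderOf a).gcd p ∣ p := Nat.gcd_dvd_right _ _
    have hg' : (orderOf a).gcd p ∣ orderOf a := Nat.gcd_dvd_left _ _
    calc orderOf a = (orderOf a).gcd p * (orderOf a / (orderOf a).gcd p) :=
          (Nat.mul_div_cancel' hg').symm
      _ ≤ p * _ := Nat.mul_le_mul_right _ (Nat.le_of_dvd hp.out.pos hg)
  have hact := act_of_prime_step (T := (⊤ : Subgroup X)) (R := Subgroup.zpowers a)
    (K := Subgroup.zpowers (a ^ p)) (hXp.to_subgroup ⊤)
    (Subgroup.zpowers_le.2 (pow_mem (Subgroup.mem_zpowers a) p)) le_top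
    (fun w _ k hk => hCa ▸ hCn.conj_mem k (hCa ▸ hk) w) (fun w _ => hCp w) hcard
  have hderiv : commutator X ≤ Subgroup.zpowers (a ^ p) := by
    refine commutator_le_of_gens _ hgen ?_
    rintro u (rfl | rfl) v (rfl | rfl)
    · simp
    · have h1 := inv_mem (hact v (Subgroup.mem_top v) u (Subgroup.mem_zpowers u))
      convert h1 using 1
      group
    · exact hact u (Subgroup.mem_top u) v (Subgroup.mem_zpowers v)
    · simp
  haveI : IsCyclic ↥(commutator X) :=
    isCyclic_of_injective (Subgroup.inclusion (hderiv.trans (Subgroup.zpowers_le.2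
      (pow_mem (Subgroup.mem_zpowers a) p)))) (Subgroup.inclusion_injective _)
  obtain ⟨⟨c, hcX⟩, hcgen⟩ := IsCyclic.exists_generator (α := ↥(commutator X))
  have hcgen' : ∀ w ∈ commutator X, ∃ i : ℤ, c ^ i = w := by
    intro w hw
    obtain ⟨i, hi⟩ := Subgroup.mem_zpowers_iff.1 (hcgen ⟨w, hw⟩)
    exact ⟨i, by simpa using congrArg Subtype.val hi⟩
  obtain ⟨r, hr⟩ : ∃ r : ℕ, (a ^ p) ^ r = c := by
    have h := hderiv hcX
    rw [← mem_powers_iff_mem_zpowers] at h
    exact h
  set Q := Subgroup.zpowers (c ^ p) with hQdef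
  have hcn : ∀ φ : X ≃* X, φ c ∈ commutator X := fun φ =>
    Subgroup.characteristic_iff_map_le.1 inferInstance φ (Subgroup.mem_map_of_mem _ hcX)
  have hQinv : ∀ (φ : X ≃* X), ∀ k ∈ Q, φ k ∈ Q := by
    rintro φ _ ⟨i, rfl⟩
    obtain ⟨j, hj⟩ := hcgen' _ (hcn φ)
    refine Subgroup.mem_zpowers_iff.2 ⟨j * i, ?_⟩
    rw [map_zpow, map_pow, ← hj, ← zpow_natCast, ← zpow_natCast, ← zpow_mul, ← zpow_mul, ← zpow_mul]
    ring_nf
  haveI : Q.Normal := ⟨fun k hk w => hQinv (MulAut.conj w) k hk⟩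
  -- `c` is fixed by `N(P)` modulo `Q`
  have hxc := x_mem_commutator hp2 P hxP hxo hiso hrank hfull
  obtain ⟨i, hi⟩ := hcgen' _ hxc
  have hx1 : (⟨x, hxP⟩ : X) ≠ 1 := fun h => hp.out.one_lt.ne (by
    rw [← hxo, show x = 1 from congrArg Subtype.val h, orderOf_one])
  have hcfix : ∀ n : Subgroup.normalizer (X : Set G), X.normalizerMonoidHom n c * c⁻¹ ∈ Q := by
    intro n
    obtain ⟨e, he⟩ := hcgen' _ (hcn (X.normalizerMonoidHom n))
    have h1 : X.normalizerMonoidHom n ⟨x, hxP⟩ = ⟨x, hxP⟩ := Subtype.ext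
      (LAE62.conj_eq_self_iff.2 (LAE62.isolated_normalizer_le_centralizer hiso P.2 hxP n.2))
    rw [← hi, map_zpow, ← he, ← zpow_mul] at h1
    have h2 : (⟨x, hxP⟩ : X) ^ (e - 1) = 1 := by
      rw [← hi, ← zpow_mul, show i * (e - 1) = e * i + -i by ring, zpow_add, h1, zpow_neg,
        mul_inv_cancel]
    have h3 : (p : ℤ) ∣ e - 1 := by
      have h4 := orderOf_dvd_iff_zpow_eq_one.2 h2
      rwa [show orderOf (⟨x, hxP⟩ : X) = p by rw [← Subgroup.orderOf_coe]; exact hxo] at h4
    obtain ⟨d, hd⟩ := h3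
    refine Subgroup.mem_zpowers_iff.2 ⟨d, ?_⟩
    rw [← zpow_natCast, ← zpow_mul, ← hd, zpow_sub, zpow_one, he]
  have hcQ : c ∉ Q := by
    intro h
    obtain ⟨j, hj⟩ := Subgroup.mem_zpowers_iff.1 h
    have h1 : orderOf c ∣ orderOf (c ^ p) := by
      refine orderOf_dvd_of_pow_eq_one ?_
      calc c ^ orderOf (c ^ p) = ((c ^ p) ^ j) ^ orderOf (c ^ p) := by rw [hj]
        _ = 1 := by
          rw [← zpow_natCast ((c ^ p) ^ j), ← zpow_mul, mul_comm, zpow_mul, zpow_natCast (c ^ p),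
            pow_orderOf_eq_one, one_zpow]
    rw [orderOf_pow' c hp.out.ne_zero] at h1
    obtain ⟨k, hk⟩ := IsPGroup.iff_orderOf.1 hXp c
    rcases Nat.eq_zero_or_pos k with rfl | hk0
    · rw [pow_zero, orderOf_eq_one_iff] at hk
      rw [hk, one_zpow] at hi
      exact hx1 hi.symm
    · have hdvd : p ∣ orderOf c := hk ▸ dvd_pow_self p hk0.ne'
      rw [Nat.gcd_eq_right hdvd] at h1
      exact absurd (Nat.le_of_dvd (Nat.div_pos (Nat.le_of_dvd (orderOf_pos c) hdvd) hp.out.pos) h1)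
        (Nat.div_lt_self (orderOf_pos c) hp.out.one_lt).not_ge
  -- the `q`-th power map modulo `Q`
  have hc2 : ∀ u v w : X, ⁅⁅u, v⁆, w⁆ ∈ Q := by
    intro u v w
    have hle : Nat.card ↥(commutator X) ≤ p * Nat.card Q := by
      have hz : commutator X = Subgroup.zpowers c := le_antisymm
        (fun w hw => Subgroup.mem_zpowers_iff.2 (hcgen' w hw)) (Subgroup.zpowers_le.2 hcX)
      rw [hz, hQdef, Nat.card_zpowers, Nat.card_zpowers, orderOf_pow' c hp.out.ne_zero]
      calc orderOf c = (orderOf c).gcd p * (orderOf c / (orderOf c).gcd p) :=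
            (Nat.mul_div_cancel' (Nat.gcd_dvd_left _ _)).symm
        _ ≤ p * _ := Nat.mul_le_mul_right _ (Nat.le_of_dvd hp.out.pos (Nat.gcd_dvd_right _ _))
    have h := act_of_prime_step (T := (⊤ : Subgroup X)) (R := commutator X) (K := Q)
      (hXp.to_subgroup ⊤) (Subgroup.zpowers_le.2 (pow_mem hcX p)) le_top
      (fun g _ k hk => Subgroup.Normal.conj_mem inferInstance k hk g)
      (fun g _ k hk => Subgroup.Normal.conj_mem inferInstance k hk g) hle
      w (Subgroup.mem_top w) ⁅u, v⁆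
      (Subgroup.commutator_mem_commutator (Subgroup.mem_top u) (Subgroup.mem_top v))
    have h2 := inv_mem h
    convert h2 using 1
    rw [commutatorElement_def]; group
  have he2 : ∀ u v : X, ⁅u, v⁆ ^ p ∈ Q := by
    intro u v
    obtain ⟨j, hj⟩ := hcgen' _ (Subgroup.commutator_mem_commutator (Subgroup.mem_top u) (Subgroup.mem_top v))
    refine Subgroup.mem_zpowers_iff.2 ⟨j, ?_⟩
    rw [← hj, ← zpow_natCast, ← zpow_natCast, ← zpow_mul, ← zpow_mul, mul_comm]
  set q := p * r with hq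
  have hcq : a ^ q = c := by rw [hq, pow_mul, hr]
  let f : X →* X ⧸ Q :=
    { toFun := fun u => QuotientGroup.mk' Q (u ^ q)
      map_one' := by rw [one_pow, map_one]
      map_mul' := fun u v => by rw [mul_pow_mod hp.out hp2 (dvd_mul_right p r) Q hc2 he2, map_mul] }
  have hPK : commutator X ≤ f.ker := by
    intro w hw
    obtain ⟨j, rfl⟩ := hcgen' w hw
    refine (QuotientGroup.eq_one_iff _).2 (Subgroup.mem_zpowers_iff.2 ⟨j * r, ?_⟩)
    rw [hq, ← zpow_natCast, ← zpow_natCast, ← zpow_mul, ← zpow_mul]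
    push_cast; ring_nf
  have haK := mem_of_fixed' hp2 P hxP hxo hiso hrank hfull (K := f.ker) hPK
    (fun n k hk => by
      refine (QuotientGroup.eq_one_iff _).2 ?_
      rw [← map_pow]
      exact hQinv _ _ ((QuotientGroup.eq_one_iff _).1 hk))
    (u := a) (fun n => by
      rw [MonoidHom.mem_ker, map_mul, map_inv]
      show QuotientGroup.mk' Q _ * (QuotientGroup.mk' Q _)⁻¹ = 1
      rw [← map_pow, hcq, ← map_inv, ← map_mul]
      exact (QuotientGroup.eq_one_iff _).2 (hcfix n))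
  exact hcQ (hcq ▸ (QuotientGroup.eq_one_iff _).1 haK)

/-- Type one (`n ≥ 4`) is impossible. -/
theorem not_typeOne {e : ℕ} {X Y Z : (P : Subgroup G)}
    (hgen : Subgroup.closure ({X, Y, Z} : Set (P : Subgroup G)) = ⊤) (hX : X ^ p = 1) (hY : Y ^ p = 1)
    (hZ : Z ^ p ^ (e + 2) = 1) (hXZ : X * Z = Z * X) (hYZ : Y * Z = Z * Y)
    (hXY : X⁻¹ * Y * X = Y * Z ^ p ^ (e + 1)) : False := by
  set q := p ^ (e + 1) with hq
  set ω := Z ^ q with hω
  have hZc : Z ∈ Subgroup.center (P : Subgroup G) := Subgroup.mem_center_iff.2 fun g => by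
    have hle : Subgroup.closure ({X, Y, Z} : Set (P : Subgroup G)) ≤ Subgroup.centralizer {Z} := by
      refine (Subgroup.closure_le _).2 ?_
      rintro w (rfl | rfl | rfl) <;> refine Subgroup.mem_centralizer_singleton_iff.2 ?_
      · exact hXZ
      · exact hYZ
      · rfl
    exact Subgroup.mem_centralizer_singleton_iff.1 (hle (hgen ▸ Subgroup.mem_top g))
  have hωc : ω ∈ Subgroup.center (P : Subgroup G) := pow_mem hZc q
  haveI : (Subgroup.zpowers ω).Normal := ⟨fun u hu g => by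
    rw [Subgroup.mem_center_iff.1 ((Subgroup.zpowers_le.2 hωc) hu) g, mul_inv_cancel_right]
    exact hu⟩
  have hωp : ω ^ p = 1 := by rw [hω, ← pow_mul, hq, ← pow_succ, hZ]
  have hder : commutator (P : Subgroup G) ≤ Subgroup.zpowers ω := by
    rw [commutator_eq_closure, Subgroup.closure_le]
    rintro _ ⟨u, v, rfl⟩
    have := H73.Resistant.comm_mem_zpowers hgen hXZ hYZ hXY hωc u v
    rw [commutatorElement_def]
    simpa [mul_assoc] using this
  have hxω := hder (x_mem_commutator hp2 P hxP hxo hiso hrank hfull)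
  obtain ⟨i, hi⟩ := Subgroup.mem_zpowers_iff.1 hxω
  have hhom : ∀ u v : (P : Subgroup G), (u * v) ^ q = u ^ q * v ^ q := by
    intro u v
    refine PGroup.mul_pow_of_odd ((hp.out.odd_of_ne_two hp2).pow) ?_ ?_
    · exact (Subgroup.zpowers_le.2 hωc) (hder (Subgroup.commutator_mem_commutator
        (Subgroup.mem_top v) (Subgroup.mem_top u)))
    · obtain ⟨j, hj⟩ := Subgroup.mem_zpowers_iff.1 (hder (Subgroup.commutator_mem_commutator
        (Subgroup.mem_top v) (Subgroup.mem_top u)))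
      rw [← hj, ← zpow_natCast, ← zpow_mul, mul_comm, zpow_mul, zpow_natCast, hq, pow_succ', pow_mul,
        hωp, one_pow, one_zpow]
  let f : (P : Subgroup G) →* (P : Subgroup G) :=
    { toFun := fun w => w ^ q, map_one' := one_pow q, map_mul' := hhom }
  have hxz : Subgroup.zpowers (ω : G) ≤ Subgroup.zpowers x := by
    have hxω' : (ω : G) ^ i = x := by simpa using congrArg Subtype.val hi
    refine (Subgroup.eq_of_le_of_card_ge (Subgroup.zpowers_le.2
      (Subgroup.mem_zpowers_iff.2 ⟨i, hxω'⟩) : Subgroup.zpowers x ≤ Subgroup.zpowers (ω : G)) ?_).ge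
    rw [Nat.card_zpowers, Nat.card_zpowers, hxo, Subgroup.orderOf_coe]
    exact Nat.le_of_dvd hp.out.pos (orderOf_dvd_of_pow_eq_one hωp)
  have hval : ∀ u : (P : Subgroup G), (u : G) ^ q ∈ Subgroup.zpowers x := by
    intro u
    have hle : Subgroup.closure ({X, Y, Z} : Set (P : Subgroup G)) ≤ (Subgroup.zpowers ω).comap f := by
      refine (Subgroup.closure_le _).2 ?_
      rintro w (rfl | rfl | rfl) <;> rw [SetLike.mem_coe, Subgroup.mem_comap, MonoidHom.coe_mk, OneHom.coe_mk]
      · rw [hq, pow_succ', pow_mul, hX, one_pow]; exact one_mem _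
      · rw [hq, pow_succ', pow_mul, hY, one_pow]; exact one_mem _
      · exact Subgroup.mem_zpowers _
    obtain ⟨j, hj⟩ := Subgroup.mem_zpowers_iff.1 (hle (hgen ▸ Subgroup.mem_top u))
    exact hxz (Subgroup.mem_zpowers_iff.2 ⟨j, by simpa [f] using congrArg Subtype.val hj⟩)
  have hω1 : ω = 1 := pow_eq_one_of_hom hp2 P hxP hxo hiso hrank hfull q hhom hval Z
  rw [hω1, one_zpow] at hi
  exact hp.out.one_lt.ne (by rw [← hxo, show x = 1 from (congrArg Subtype.val hi).symm, orderOf_one])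

/-- Type two is impossible unless `p = 3` and `n = 4`, where it has maximal class. -/
theorem typeTwo_maxClass {m : ℕ} {s : ℤ} {X Y Z : (P : Subgroup G)}
    (T : H73.Resistant.TypeTwo p (⊤ : Subgroup (P : Subgroup G)) m s X Y Z) :
    p = 3 ∧ m = 2 ∧ (⊤ : Subgroup (P : Subgroup G)).lowerCentralSeries 2 ≠ ⊥ := by
  have hm := T.hm
  set q := p ^ (m - 1) with hq
  set ω := Z ^ q with hω
  have hqZ : ((p : ℤ) ^ (m - 1)) = ((q : ℕ) : ℤ) := by rw [hq]; push_cast; rfl
  have hωp : ω ^ p = 1 := by rw [hω, ← pow_mul, hq, ← pow_succ, Nat.sub_add_cancel (by omega), T.hz]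
  have hω1 : ω ≠ 1 := by
    intro h
    have h1 := (T.el_inj (i := 0) (j := 0) (k := (q : ℤ)) (i' := 0) (j' := 0) (k' := 0) (by
      simpa [hω] using h)).2.2
    rw [sub_zero, ← Nat.cast_pow, Int.natCast_dvd_natCast, hq,
      Nat.pow_dvd_pow_iff_le_right hp.out.one_lt] at h1
    omega
  have hωo : orderOf ω = p := ((Nat.dvd_prime hp.out).1 (orderOf_dvd_of_pow_eq_one hωp)).resolve_left
    (fun h => hω1 (orderOf_eq_one_iff.1 h))
  have hωc : ω ∈ Subgroup.center (P : Subgroup G) := Subgroup.mem_center_iff.2 fun g => by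
    have := T.zk_comm (k := (q : ℤ)) (by rw [← hqZ]; exact T.dvd_q) (Subgroup.mem_top g)
    rwa [zpow_natCast] at this
  haveI hωn : (Subgroup.zpowers ω).Normal := ⟨fun u hu g => by
    rw [Subgroup.mem_center_iff.1 ((Subgroup.zpowers_le.2 hωc) hu) g, mul_inv_cancel_right]
    exact hu⟩
  have hYω : Commute Y ω := (Subgroup.mem_center_iff.1 hωc Y)
  set K0 := H73.Resistant.planeA Y ω with hK0
  have hωK : ω ∈ K0 := Subgroup.mem_sup_right (Subgroup.mem_zpowers ω)
  have hYK : Y ∈ K0 := Subgroup.mem_sup_left (Subgroup.mem_zpowers Y)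
  have hXY' : X⁻¹ * Y * X = Y * ω ^ s := by
    rw [T.hxy, hω, ← zpow_natCast Z q, ← zpow_mul, hqZ, mul_comm s]
  have hgens : ∀ w : (P : Subgroup G), w ∈ Subgroup.closure ({X, Y, Z} : Set (P : Subgroup G)) :=
    fun w => T.hgen ▸ Subgroup.mem_top w
  -- conjugation on `Y` modulo `ω`
  have hYconj : ∀ w : (P : Subgroup G), w * Y * w⁻¹ * Y⁻¹ ∈ Subgroup.zpowers ω := by
    intro w
    set π := QuotientGroup.mk' (Subgroup.zpowers ω) with hπ
    have hle : Subgroup.closure ({X, Y, Z} : Set (P : Subgroup G)) ≤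
        (Subgroup.centralizer ({π Y} : Set _)).comap π := by
      refine (Subgroup.closure_le _).2 ?_
      rintro v (rfl | rfl | rfl) <;> refine Subgroup.mem_centralizer_singleton_iff.2 ?_
      · have h1 := congrArg π hXY'
        rw [map_mul, map_mul, map_inv, map_mul, map_zpow,
          show π ω = 1 from (QuotientGroup.eq_one_iff _).2 (Subgroup.mem_zpowers ω), one_zpow, mul_one] at h1
        calc π v * π Y = π v * ((π v)⁻¹ * π Y * π v) := by rw [h1]
          _ = π Y * π v := by group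
      · rfl
      · exact ((T.hyz).map π).eq.symm
    have h2 : π w * π Y = π Y * π w := Subgroup.mem_centralizer_singleton_iff.1 (hle (hgens w))
    refine (QuotientGroup.eq_one_iff _).1 (?_ : π (w * Y * w⁻¹ * Y⁻¹) = 1)
    rw [map_mul, map_mul, map_mul, map_inv, map_inv, h2]; group
  have hK0act : ∀ w : (P : Subgroup G), ∀ k ∈ K0, w * k * w⁻¹ * k⁻¹ ∈ Subgroup.zpowers ω := by
    intro w k hk
    obtain ⟨j, l, rfl⟩ := (H73.Resistant.mem_planeA hYω).1 hk
    set π := QuotientGroup.mk' (Subgroup.zpowers ω) with hπ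
    have hπω : π ω = 1 := (QuotientGroup.eq_one_iff _).2 (Subgroup.mem_zpowers ω)
    have hc : Commute (π w) (π Y) := by
      have h1 : π (w * Y * w⁻¹ * Y⁻¹) = 1 := (QuotientGroup.eq_one_iff _).2 (hYconj w)
      rw [map_mul, map_mul, map_mul, map_inv, map_inv] at h1
      exact mul_inv_eq_iff_eq_mul.1 (mul_inv_eq_one.1 h1)
    refine (QuotientGroup.eq_one_iff _).1 (?_ : π (w * (Y ^ j * ω ^ l) * w⁻¹ * (Y ^ j * ω ^ l)⁻¹) = 1)
    simp only [map_mul, map_inv, map_zpow, hπω, one_zpow, mul_one]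
    rw [(hc.zpow_right j).eq]; group
  haveI hK0n : K0.Normal := ⟨fun k hk w => by
    have := mul_mem ((Subgroup.zpowers_le.2 hωK) (hK0act w k hk)) hk
    rwa [inv_mul_cancel_right] at this⟩
  have hder : commutator (P : Subgroup G) ≤ K0 := by
    refine commutator_le_of_gens _ (T.hgen) ?_
    have hXY0 : ∀ w : (P : Subgroup G), w * Y * w⁻¹ * Y⁻¹ ∈ K0 := fun w =>
      (Subgroup.zpowers_le.2 hωK) (hYconj w)
    have hXZ0 : X * Z * X⁻¹ * Z⁻¹ ∈ K0 := by
      have h1 : X⁻¹ * Z * X * Z⁻¹ ∈ K0 := by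
        rw [T.hxz, mul_inv_cancel_right]; exact hYK
      have h2 := hK0n.conj_mem _ (inv_mem h1) X
      convert h2 using 1
      group
    rintro u (rfl | rfl | rfl) v (rfl | rfl | rfl)
    · simp
    · exact hXY0 _
    · exact hXZ0
    · have := inv_mem (hXY0 v)
      convert this using 1
      group
    · simp
    · have := inv_mem (hXY0 v)
      convert this using 1
      group
    · have := inv_mem hXZ0
      convert this using 1
      group
    · exact hXY0 _
    · simp
  have hK0p : ∀ k ∈ K0, k ^ p = 1 := by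
    intro k hk
    obtain ⟨j, l, rfl⟩ := (H73.Resistant.mem_planeA hYω).1 hk
    rw [(hYω.zpow_zpow j l).mul_pow, ← zpow_natCast, ← zpow_natCast, ← zpow_mul, ← zpow_mul,
      mul_comm j, mul_comm l, zpow_mul, zpow_mul, zpow_natCast, zpow_natCast, T.hy, hωp, one_zpow,
      one_zpow, mul_one]
  have hc2 : ∀ u v w : (P : Subgroup G), ⁅⁅u, v⁆, w⁆ ∈ Subgroup.zpowers ω := by
    intro u v w
    have h := inv_mem (hK0act w _ (hder (Subgroup.commutator_mem_commutator (Subgroup.mem_top u) (Subgroup.mem_top v))))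
    convert h using 1
    rw [commutatorElement_def]; group
  -- `x` generates the same subgroup as `ω`
  have hxω : Subgroup.zpowers ω ≤ Subgroup.zpowers (⟨x, hxP⟩ : (P : Subgroup G)) := by
    obtain ⟨j, l, hjl⟩ := (H73.Resistant.mem_planeA hYω).1
      (hder (x_mem_commutator hp2 P hxP hxo hiso hrank hfull))
    have hcx : Commute X (⟨x, hxP⟩ : (P : Subgroup G)) := Subtype.ext
      (LAE62.isolated_commute_of_mem_pGroup hiso P.2 hxP X.2).eq.symm
    have h1 : X⁻¹ * (⟨x, hxP⟩ : (P : Subgroup G)) * X = ⟨x, hxP⟩ := hcx.inv_mul_cancel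
    rw [hjl] at h1
    have h2 : X⁻¹ * (Y ^ j * ω ^ l) * X = (Y * ω ^ s) ^ j * ω ^ l := by
      rw [← hXY', show X⁻¹ * Y * X = MulAut.conj X⁻¹ Y by simp, ← map_zpow]
      have h3 : MulAut.conj X⁻¹ (ω ^ l) = ω ^ l := by
        rw [MulAut.conj_apply, Subgroup.mem_center_iff.1 (zpow_mem hωc l) X⁻¹, mul_inv_cancel_right]
      conv_rhs => rw [← h3, ← map_mul]
      simp [mul_assoc]
    rw [h2, (hYω.zpow_right s).mul_zpow, ← zpow_mul] at h1
    have h4 : ω ^ (s * j) = 1 := by
      have h5 : Y ^ j * ω ^ (s * j) = Y ^ j := mul_right_cancel h1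
      exact mul_eq_left.1 h5
    have hsj : (p : ℤ) ∣ j := by
      have h6 := orderOf_dvd_iff_zpow_eq_one.2 h4
      rw [hωo] at h6
      exact ((Nat.prime_iff_prime_int.1 hp.out).dvd_or_dvd h6).resolve_left T.hs
    rw [T.ypow hsj, one_mul] at hjl
    refine (Subgroup.eq_of_le_of_card_ge (Subgroup.zpowers_le.2 (Subgroup.mem_zpowers_iff.2 ⟨l, hjl.symm⟩) :
      Subgroup.zpowers (⟨x, hxP⟩ : (P : Subgroup G)) ≤ Subgroup.zpowers ω) ?_).ge
    rw [Nat.card_zpowers, Nat.card_zpowers, hωo, ← Subgroup.orderOf_coe]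
    exact hxo.ge
  have hlcs1 : (⊤ : Subgroup (P : Subgroup G)).lowerCentralSeries 1 ≤ K0 := by
    rw [Subgroup.top_lowerCentralSeries_one]; exact hder
  by_cases h34 : p = 3 ∧ m = 2
  · refine ⟨h34.1, h34.2, fun hbot => ?_⟩
    have hy1 : Y ∈ (⊤ : Subgroup (P : Subgroup G)).lowerCentralSeries 1 := by
      rw [Subgroup.top_lowerCentralSeries_one]
      have h := Subgroup.commutator_mem_commutator (Subgroup.mem_top (X⁻¹)) (Subgroup.mem_top Z)
      rw [commutatorElement_def, inv_inv, T.hxz, mul_inv_cancel_right] at h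
      exact h
    have hy2 : ⁅Y⁻¹, X⁻¹⁆ ∈ (⊤ : Subgroup (P : Subgroup G)).lowerCentralSeries (1 + 1) := by
      rw [Subgroup.lowerCentralSeries_succ]
      exact Subgroup.commutator_mem_commutator (inv_mem hy1) (Subgroup.mem_top _)
    rw [show (1 + 1 : ℕ) = 2 from rfl, hbot, Subgroup.mem_bot, commutatorElement_def, inv_inv, inv_inv] at hy2
    have h7 : Y⁻¹ * (X⁻¹ * Y * X) = 1 := by rw [← hy2]; group
    rw [hXY', inv_mul_cancel_left] at h7
    have h8 := orderOf_dvd_iff_zpow_eq_one.2 h7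
    rw [hωo] at h8
    exact T.hs h8
  exfalso
  -- the `p`-th power map
  have hhomp : ∀ u v : (P : Subgroup G), QuotientGroup.mk' (Subgroup.zpowers ω) ((u * v) ^ p) =
      QuotientGroup.mk' (Subgroup.zpowers ω) (u ^ p * v ^ p) :=
    mul_pow_mod hp.out hp2 dvd_rfl _ hc2 (fun a b => by
      rw [hK0p _ (hder (Subgroup.commutator_mem_commutator (Subgroup.mem_top a) (Subgroup.mem_top b)))]
      exact one_mem _)
  have hpval : ∀ u : (P : Subgroup G), u ^ p ∈ Subgroup.zpowers (Z ^ p) := by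
    have hωZ : Subgroup.zpowers ω ≤ Subgroup.zpowers (Z ^ p) := by
      refine Subgroup.zpowers_le.2 ?_
      rw [hω, hq, show m - 1 = m - 2 + 1 by omega, pow_succ', pow_mul]
      exact pow_mem (Subgroup.mem_zpowers _) _
    set π := QuotientGroup.mk' (Subgroup.zpowers ω) with hπ
    let f : (P : Subgroup G) →* (P : Subgroup G) ⧸ Subgroup.zpowers ω :=
      { toFun := fun u => π (u ^ p)
        map_one' := by rw [one_pow, map_one]
        map_mul' := fun u v => by rw [hhomp, map_mul] }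
    intro u
    have hle : Subgroup.closure ({X, Y, Z} : Set (P : Subgroup G)) ≤
        (Subgroup.zpowers (π (Z ^ p))).comap f := by
      refine (Subgroup.closure_le _).2 ?_
      rintro v (rfl | rfl | rfl)
      · show π (v ^ p) ∈ Subgroup.zpowers (π (Z ^ p))
        rw [T.hx, map_one]; exact one_mem _
      · show π (v ^ p) ∈ Subgroup.zpowers (π (Z ^ p))
        rw [T.hy, map_one]; exact one_mem _
      · exact Subgroup.mem_zpowers _
    obtain ⟨i, hi⟩ := Subgroup.mem_zpowers_iff.1 (hle (hgens u))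
    rw [← map_zpow] at hi
    have h := mul_mem (zpow_mem (Subgroup.mem_zpowers (Z ^ p)) i) (hωZ (QuotientGroup.eq.1 hi))
    rwa [mul_inv_cancel_left] at h
  have hpc : ∀ u : (P : Subgroup G), u ^ p ∈ Subgroup.center (P : Subgroup G) := fun u => by
    refine Subgroup.mem_center_iff.2 fun g => ?_
    obtain ⟨i, hi⟩ := Subgroup.mem_zpowers_iff.1 (hpval u)
    rw [← hi, ← zpow_natCast, ← zpow_mul]
    exact (T.zk_comm (dvd_mul_right _ _) (Subgroup.mem_top g)).eq
  have hhom : ∀ u v : (P : Subgroup G), (u * v) ^ q = u ^ q * v ^ q := by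
    rcases eq_or_lt_of_le hm with hm2 | hm3
    · have hp5 : 5 ≤ p := by
        have := hp.out.two_le
        have hne : p ≠ 3 := fun h => h34 ⟨h, hm2.symm⟩
        have hne4 : p ≠ 4 := fun h => by rw [h] at hp; exact absurd hp.out (by norm_num)
        omega
      rw [hq, ← hm2, show 2 - 1 = 1 from rfl, pow_one]
      have hl3 : (⊤ : Subgroup (P : Subgroup G)).lowerCentralSeries 3 = ⊥ := by
        have h2le : (⊤ : Subgroup (P : Subgroup G)).lowerCentralSeries (1 + 1) ≤ Subgroup.zpowers ω := by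
          rw [Subgroup.lowerCentralSeries_succ, Subgroup.commutator_le]
          intro k hk w _
          have h := inv_mem (hK0act w k (hlcs1 hk))
          convert h using 1
          rw [commutatorElement_def]; group
        rw [show (3 : ℕ) = 1 + 1 + 1 from rfl, Subgroup.lowerCentralSeries_succ, eq_bot_iff, Subgroup.commutator_le]
        intro k hk w _
        rw [Subgroup.mem_bot, commutatorElement_eq_one_iff_mul_comm]
        exact (Subgroup.mem_center_iff.1 ((Subgroup.zpowers_le.2 hωc) (h2le hk)) w).symm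
      exact H73.mul_pow_prime_of_class_lt hp.out
        (eq_bot_iff.2 ((Subgroup.lowerCentralSeries_antitone _ (by omega)).trans hl3.le))
        (fun c hc => hK0p c (hder hc))
    · intro u v
      obtain ⟨r, hr⟩ : ∃ r, m - 1 = r + 1 + 1 := ⟨m - 3, by omega⟩
      have h1 := QuotientGroup.eq.1 (hhomp u v).symm
      obtain ⟨i, hi⟩ := Subgroup.mem_zpowers_iff.1 h1
      have h2 : (u * v) ^ p = u ^ p * v ^ p * ω ^ i := by rw [hi]; group
      have hcu : ∀ a b : (P : Subgroup G), Commute (a ^ p) b := fun a b =>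
        (Subgroup.mem_center_iff.1 (hpc a) b).symm
      rw [hq, hr, pow_succ', pow_mul, pow_mul, pow_mul, h2,
        (show Commute (u ^ p * v ^ p) (ω ^ i) from (Subgroup.mem_center_iff.1 (zpow_mem hωc i) _)).mul_pow,
        (hcu u _).mul_pow]
      rw [pow_succ', pow_mul (ω ^ i), ← zpow_natCast (ω ^ i) p, ← zpow_mul, mul_comm i, zpow_mul,
        zpow_natCast, hωp, one_zpow, one_pow, mul_one]
  have hval : ∀ u : (P : Subgroup G), (u : G) ^ q ∈ Subgroup.zpowers x := by
    intro u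
    let f : (P : Subgroup G) →* (P : Subgroup G) :=
      { toFun := fun w => w ^ q, map_one' := one_pow q, map_mul' := hhom }
    have hle : Subgroup.closure ({X, Y, Z} : Set (P : Subgroup G)) ≤
        (Subgroup.zpowers (⟨x, hxP⟩ : (P : Subgroup G))).comap f := by
      refine (Subgroup.closure_le _).2 ?_
      rintro w (rfl | rfl | rfl) <;> rw [SetLike.mem_coe, Subgroup.mem_comap, MonoidHom.coe_mk, OneHom.coe_mk]
      · rw [hq, show m - 1 = m - 2 + 1 by omega, pow_succ', pow_mul, T.hx, one_pow]; exact one_mem _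
      · rw [hq, show m - 1 = m - 2 + 1 by omega, pow_succ', pow_mul, T.hy, one_pow]; exact one_mem _
      · exact hxω (Subgroup.mem_zpowers ω)
    obtain ⟨j, hj⟩ := Subgroup.mem_zpowers_iff.1 (hle (hgens u))
    exact Subgroup.mem_zpowers_iff.2 ⟨j, by simpa [f] using congrArg Subtype.val hj⟩
  exact hω1 (pow_eq_one_of_hom hp2 P hxP hxo hiso hrank hfull q hhom hval Z)

/-- A `3`-group of maximal class as Sylow subgroup has order an odd power of `3`. -/
theorem maxClass_odd {n : ℕ} (h3 : p = 3) (hn : Nat.card (P : Subgroup G) = p ^ n) (hn4 : 4 ≤ n)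
    (hlcs : (⊤ : Subgroup (P : Subgroup G)).lowerCentralSeries (n - 2) ≠ ⊥) :
    (Cfsg.IsExtraspecial p (P : Subgroup G) ∧ Nat.card (P : Subgroup G) = p ^ 3 ∧
        ∀ y ∈ (P : Subgroup G), y ^ p = 1) ∨
      (p = 3 ∧ ∃ k : ℕ, 2 ≤ k ∧ Nat.card (P : Subgroup G) = 3 ^ (2 * k + 1) ∧
        ∃ _ : Group.IsNilpotent (P : Subgroup G), Group.nilpotencyClass (P : Subgroup G) = 2 * k) := by
  subst h3
  set N := Subgroup.normalizer ((P : Subgroup G) : Set G) with hN
  set PN := (P : Subgroup G).subgroupOf N with hPN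
  haveI : PN.Normal := Subgroup.normal_in_normalizer
  have hm : ¬ 3 ∣ PN.index := by
    intro h
    refine P.not_dvd_index (h.trans ?_)
    exact Dvd.intro _ (Subgroup.relIndex_mul_index Subgroup.le_normalizer)
  have hinner : ∀ (g : N) (u : (P : Subgroup G)),
      (P : Subgroup G).normalizerMonoidHom (g ^ PN.index) u * u⁻¹ ∈ commutator (P : Subgroup G) := by
    intro g u
    have hmem : (↑(g ^ PN.index) : G) ∈ (P : Subgroup G) := PN.pow_index_mem g
    have h1 : (P : Subgroup G).normalizerMonoidHom (g ^ PN.index) u * u⁻¹ =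
        ⁅(⟨_, hmem⟩ : (P : Subgroup G)), u⁆ := Subtype.ext rfl
    rw [h1]
    exact Subgroup.commutator_mem_commutator (Subgroup.mem_top _) (Subgroup.mem_top _)
  obtain ⟨⟨k, hk⟩, hnil, hcl⟩ := maxClass_parity (θ := (P : Subgroup G).normalizerMonoidHom)
    hn hn4 hlcs PN.index hm hinner
    (fun u hu => mem_of_fixed' hp2 P hxP hxo hiso hrank hfull le_rfl
      (fun g c hc => Subgroup.characteristic_iff_map_le.1 inferInstance _ (Subgroup.mem_map_of_mem _ hc))
      hu)
    ⟨x, hxP⟩ (by rw [← Subgroup.orderOf_coe]; exact hxo)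
    (Subgroup.mem_center_iff.2 fun w => Subtype.ext
      (LAE62.isolated_commute_of_mem_pGroup hiso P.2 hxP w.2).eq.symm)
    (fun g => Subtype.ext
      (LAE62.conj_eq_self_iff.2 (LAE62.isolated_normalizer_le_centralizer hiso P.2 hxP g.2)))
  refine Or.inr ⟨rfl, k, by omega, by rw [hn, hk], hnil, by rw [hcl, hk]; omega⟩

/-- The structure of `P`. -/
theorem sylow_structure :
    (Cfsg.IsExtraspecial p (P : Subgroup G) ∧ Nat.card (P : Subgroup G) = p ^ 3 ∧
        ∀ y ∈ (P : Subgroup G), y ^ p = 1) ∨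
      (p = 3 ∧ ∃ k : ℕ, 2 ≤ k ∧ Nat.card (P : Subgroup G) = 3 ^ (2 * k + 1) ∧
        ∃ _ : Group.IsNilpotent (P : Subgroup G), Group.nilpotencyClass (P : Subgroup G) = 2 * k) := by
  have hnc := not_comm hp2 P hxP hxo hiso hrank hfull
  have hXp : IsPGroup p (P : Subgroup G) := P.2
  obtain ⟨n, hn⟩ := IsPGroup.iff_card.1 hXp
  have hn3 : 3 ≤ n := by
    by_contra h
    refine hnc ?_
    rcases (show n = 0 ∨ n = 1 ∨ n = 2 by omega) with rfl | rfl | rfl
    · rw [pow_zero] at hn
      haveI := (Nat.card_eq_one_iff_unique.1 hn).1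
      exact ⟨⟨fun a b => Subsingleton.elim _ _⟩⟩
    · rw [pow_one] at hn
      haveI := isCyclic_of_prime_card hn
      exact IsCyclic.isMulCommutative
    · exact ⟨⟨IsPGroup.commutative_of_card_eq_prime_sq hn⟩⟩
  by_cases hsmall : n = 3 ∧ ∀ g : (P : Subgroup G), g ^ p = 1
  · obtain ⟨rfl, hexp⟩ := hsmall
    refine Or.inl ⟨?_, hn, fun y hy => congrArg Subtype.val (hexp ⟨y, hy⟩)⟩
    exact isExtraspecial_cube hXp hn hnc hexp
  have hm : ¬ Cfsg.IsMetacyclic (P : Subgroup G) := not_metacyclic hp2 P hxP hxo hiso hrank hfull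
  have hn4 : 4 ≤ n := by
    by_contra h
    obtain rfl : n = 3 := by omega
    exact hm (isMetacyclic_cube hXp hn fun h' => hsmall ⟨rfl, h'⟩)
  rcases S3888.result hp2 n hn (PGroup.pRankLE_subgroup _ hrank) with hmc |
    ⟨-, X, Y, Z, hgen, hX, hY, hZ, hXZ, hYZ, hXY⟩ |
    ⟨-, s, X, Y, Z, hs, hgen, hX, hY, hZ, hYZ, hXY, hXZ⟩ | ⟨h3, -, hlcs⟩
  · exact absurd hmc hm
  · obtain ⟨e, rfl⟩ : ∃ e, n = e + 4 := ⟨n - 4, by omega⟩
    rw [show e + 4 - 2 = e + 2 by omega] at hZ
    rw [show e + 4 - 3 = e + 1 by omega] at hXY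
    exact (not_typeOne hp2 P hxP hxo hiso hrank hfull hgen hX hY hZ hXZ hYZ hXY).elim
  · have hs' : ¬ (p : ℤ) ∣ (s : ℤ) := by
      intro h
      have h' : p ∣ s := by exact_mod_cast h
      rcases hs with rfl | hs
      · exact hp.out.one_lt.ne' (Nat.dvd_one.1 h')
      · exact hs ⟨0, by rw [(ZMod.natCast_eq_zero_iff s p).2 h', mul_zero]⟩
    have T : H73.Resistant.TypeTwo p (⊤ : Subgroup (P : Subgroup G)) (n - 2) (s : ℤ) X Y Z :=
      { hm := by omega
        hs := hs'
        hgen := hgen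
        hcard := by rw [Subgroup.card_top, hn, show n - 2 + 2 = n by omega]
        hx := hX
        hy := hY
        hz := hZ
        hyz := hYZ
        hxy := by
          rw [hXY, ← zpow_natCast, show n - 2 - 1 = n - 3 by omega]
          push_cast
          rfl
        hxz := hXZ }
    obtain ⟨h3, hm2, hl⟩ := typeTwo_maxClass hp2 P hxP hxo hiso hrank hfull T
    obtain rfl : n = 4 := by omega
    exact maxClass_odd hp2 P hxP hxo hiso hrank hfull h3 hn hn4 hl
  · exact maxClass_odd hp2 P hxP hxo hiso hrank hfull h3 hn hn4 hlcs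

end Cfsg.Agent.IsoRankTwo
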